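import Mathlib
import Cfsg.Agent.H22.NE2.TwoFin
import Cfsg.Agent.H22.NE2.MlK
import Cfsg.Agent.H15.Asm.Near

/-!
# The prime 2: the plane `T ≤ C(O_2(D))` from the data `KM` (helper22)
-/

set_option autoImplicit false
set_option linter.unusedSectionVars false

namespace Cfsg.Agent.H22.NE2

open Subgroup
open Cfsg.Agent.H275.NS (NearS DD)
open Cfsg.Agent.H10.NS (ESD UD Zc)
open Cfsg.Agent.H15.Asm (KM)
open Cfsg.Agent.SignalizersComponents.MinCounterBasic

universe u

variable {G : Type u} [Group G] [Finite G] {p : ℕ} [hp : Fact p.Prime] {A D : Subgroup G} {θ : G → Subgroup G}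

/-- **the plane for the prime `2`** -/
theorem two_plane_km (hk : KM p A θ) (hd : ESD p A θ D) (hn : NearS p A θ) (hD : DD p A θ D)
    (hu : UD p A θ D 2 (Zc (Op 2 D))) : ∃ T ≤ A, T.relIndex A = p ∧ Op 2 D ≤ centralizer (T : Set G) :=
  two_plane hd hn hD hk.kn hk.ty ⟨hk.good, hk.ns, hk.tt (Or.inl rfl)⟩
    (fun V hV _ _ h1 h2 h3 => ml2K_of_isKGroup (hk.kg V hV) hp.out hV.cop h1 h2 h3) hu

end Cfsg.Agent.H22.NE2
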